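import Groth.Agent.PTorsLib.GaIso

/-!
# The one-variable vector group as a symmetric algebra
-/

universe u

set_option autoImplicit false
set_option backward.isDefEq.respectTransparency false
set_option backward.isDefEq.respectTransparency.types false

open TensorProduct

namespace Groth.Agent.PTorsLib

open DimOneLib (Prim)

theorem nonempty_vec_symm (k : Type u) [Field k] : Nonempty (Vec k 1 ≃ₐc[k] SymmetricAlgebra k k) := by
  let g : SymmetricAlgebra k k := SymmetricAlgebra.ι k k 1
  let x : Fin 1 → SymmetricAlgebra k k := fun _ => g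
  have hx : ∀ i, Prim k (x i) := fun i => SymmetricAlgebra.comul_ι _ _ _
  let inv : SymmetricAlgebra k k →ₐ[k] Vec k 1 :=
    SymmetricAlgebra.lift (LinearMap.toSpanSingleton k (Vec k 1) (gen k 0))
  have hinv : inv g = gen k 0 := by
    simp [inv, g, SymmetricAlgebra.lift_ι_apply, LinearMap.toSpanSingleton_apply_one]
  have h1 : inv.comp (evHom x hx : Vec k 1 →ₐ[k] SymmetricAlgebra k k) = AlgHom.id k _ :=
    algHom_ext_gen fun i => by
      show inv (ev x (gen k i)) = _
      rw [ev_gen, hinv, Fin.fin_one_eq_zero i]
      rfl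
  have h2 : (evHom x hx : Vec k 1 →ₐ[k] SymmetricAlgebra k k).comp inv = AlgHom.id k _ := by
    refine SymmetricAlgebra.algHom_ext (LinearMap.ext_ring ?_)
    show ev x (inv g) = g
    rw [hinv, ev_gen]
  exact ⟨BialgEquiv.ofBijective (evHom x hx)
    ⟨fun a b hab => by
      have := congrArg inv hab
      rwa [show inv (evHom x hx a) = a from AlgHom.congr_fun h1 a,
        show inv (evHom x hx b) = b from AlgHom.congr_fun h1 b] at this,
    fun b => ⟨inv b, AlgHom.congr_fun h2 b⟩⟩⟩

end Groth.Agent.PTorsLib
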